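import Groth.Prelude

/-!
The contracting homotopy attached to extension maps.
-/

set_option autoImplicit false
set_option linter.style.haveILetI false
set_option linter.unusedSectionVars false

universe u

open CategoryTheory Opposite TopologicalSpace W4c6blochformula0cyc

namespace Groth.Agent.BlochCech

variable {X : Type u} [TopologicalSpace X] (F : (Opens X)ᵒᵖ ⥤ AddCommGrpCat.{u}) {ι : Type u} (U : ι → Opens X)

theorem res_res {V W Z : Opens X} (h : W ≤ V) (h' : Z ≤ W) (x : F.obj (op V)) :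
    res F h' (res F h x) = res F (h'.trans h) x := by
  simp only [res]
  rw [← ConcreteCategory.comp_apply, ← F.map_comp]
  rfl

theorem res_self {V : Opens X} (h : V ≤ V) (x : F.obj (op V)) : res F h x = x := by
  simp only [res]
  rw [show (homOfLE h).op = 𝟙 (op V) from Subsingleton.elim _ _, F.map_id]
  rfl

theorem res_congr {n : ℕ} (f : Cochain F U n) {s s' : Fin n → ι} (e : s = s') {W : Opens X}
    (h : W ≤ cechOpen U s) (h' : W ≤ cechOpen U s') : res F h (f s) = res F h' (f s') := by
  subst e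
  rfl

variable (E : ∀ (V : Opens X) (α : ι), F.obj (op (V ⊓ U α)) →+ F.obj (op V))

theorem res_E_eq {V W : Opens X} (e : V = W) (α : ι) {Z : Opens X} (hV : V ⊓ U α ≤ Z) (hW : W ⊓ U α ≤ Z)
    (h : W ≤ V) (g : F.obj (op Z)) : res F h (E V α (res F hV g)) = E W α (res F hW g) := by
  subst e
  exact res_self F h _

theorem cechOpen_eq {n : ℕ} (t : Fin (n + 1) → ι) (k : Fin (n + 1)) :
    cechOpen U (t ∘ k.succAbove) ⊓ U (t k) = cechOpen U t := by
  refine le_antisymm (le_iInf fun j => ?_) (le_inf (cechOpen_le_comp U t k) (iInf_le (fun j => U (t j)) k))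
  rcases Fin.eq_self_or_eq_succAbove k j with rfl | ⟨i, rfl⟩
  · exact inf_le_right
  · exact inf_le_left.trans (iInf_le (fun i => U ((t ∘ k.succAbove) i)) i)

theorem homotopy_delta [Fintype ι]
    (h2 : ∀ (m : ℕ) (t : Fin (m + 1) → ι) (f : F.obj (op (cechOpen U t))),
      ∑ α, E (cechOpen U t) α (res F inf_le_left f) = f)
    (h3 : ∀ (m : ℕ) (t : Fin (m + 1) → ι) (α β : ι) (g : F.obj (op (cechOpen U t ⊓ U α))),
      res F inf_le_left (E (cechOpen U t) α g) =
        E (cechOpen U t ⊓ U β) α (res F (inf_le_inf_right (U α) inf_le_left) g))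
    (n : ℕ) (f : Cochain F U (n + 2)) :
    homotopy F U E (n + 2) (delta F U (n + 2) f) + delta F U (n + 1) (homotopy F U E (n + 1) f) = f := by
  funext t
  have key : ∀ (α : ι) (k : Fin (n + 2)),
      res F (cechOpen_le_comp U t k) (E (cechOpen U (t ∘ k.succAbove)) α
        (res F (inf_le_cechOpen_cons U (t ∘ k.succAbove) α) (f (Fin.cons α (t ∘ k.succAbove))))) =
      E (cechOpen U t) α (res F ((inf_le_inf_right (U α) (cechOpen_le_comp U t k)).trans
        (inf_le_cechOpen_cons U (t ∘ k.succAbove) α)) (f (Fin.cons α (t ∘ k.succAbove)))) := fun α k => by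
    have e := cechOpen_eq U t k
    rw [← res_res F inf_le_left e.ge, h3 n _ α (t k), res_res]
    exact res_E_eq F U E e α _ _ e.ge _
  have hj : ∀ (α : ι) (k : Fin (n + 2)), (Fin.cons α t : Fin (n + 3) → ι) ∘ k.succ.succAbove =
      Fin.cons α (t ∘ k.succAbove) := fun α k => by
    funext i
    refine Fin.cases ?_ (fun i => ?_) i
    · simp
    · simp [Fin.succ_succAbove_succ]
  have hd : ∀ α : ι, res F (inf_le_cechOpen_cons U t α) (delta F U (n + 2) f (Fin.cons α t)) =
      res F inf_le_left (f t) - ∑ k : Fin (n + 2), ((-1 : ℤ) ^ (k : ℕ)) •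
        res F ((inf_le_inf_right (U α) (cechOpen_le_comp U t k)).trans
          (inf_le_cechOpen_cons U (t ∘ k.succAbove) α)) (f (Fin.cons α (t ∘ k.succAbove))) := fun α => by
    change res F (inf_le_cechOpen_cons U t α) (∑ j : Fin (n + 3), ((-1 : ℤ) ^ (j : ℕ)) •
      res F (cechOpen_le_comp U (Fin.cons α t : Fin (n + 3) → ι) j) (f ((Fin.cons α t : Fin (n + 3) → ι) ∘ j.succAbove))) = _
    rw [Fin.sum_univ_succ, map_add, map_sum, sub_eq_add_neg, ← Finset.sum_neg_distrib]
    refine congrArg₂ (· + ·) ?_ (Finset.sum_congr rfl fun k _ => ?_)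
    · rw [Fin.val_zero, pow_zero, one_smul, res_res]
      exact res_congr F U f (funext fun i => by simp) _ _
    · rw [map_zsmul, res_res, Fin.val_succ, pow_succ, mul_neg_one, neg_smul]
      exact congrArg (fun x => -(((-1 : ℤ) ^ (k : ℕ)) • x)) (res_congr F U f (hj α k) _ _)
  change (∑ α, E (cechOpen U t) α (res F (inf_le_cechOpen_cons U t α) (delta F U (n + 2) f (Fin.cons α t)))) +
    (∑ k : Fin (n + 2), ((-1 : ℤ) ^ (k : ℕ)) • res F (cechOpen_le_comp U t k)
      (∑ α, E (cechOpen U (t ∘ k.succAbove)) α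
        (res F (inf_le_cechOpen_cons U (t ∘ k.succAbove) α) (f (Fin.cons α (t ∘ k.succAbove)))))) = f t
  simp only [hd, map_sub, map_sum, map_zsmul, key, Finset.sum_sub_distrib, Finset.smul_sum]
  rw [h2 (n + 1) t (f t), Finset.sum_comm, sub_add_cancel]

end Groth.Agent.BlochCech
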